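import Groth.Agent.Lib.Helper2.Stk.Rpush
import Groth.Agent.Lib.Helper2.Stk.LpullOpen
import Groth.Agent.Lib.Helper2.Aff.HomVanMV

/-!
# The adjunction `restrictD j ⊣ Rpush j` for an open immersion `j` (helper2)
-/

set_option autoImplicit false
set_option linter.style.haveILetI false
universe u
open CategoryTheory CategoryTheory.Limits AlgebraicGeometry TopologicalSpace Opposite
  HomologicalComplex

attribute [local instance] HasDerivedCategory.standard

namespace Groth.Agent.Lib.Helper2.KillPow

open Groth.Agent.Lib.Helper2 Groth.Agent.Lib.Helper2.Stk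

local notation "cc" => ComplexShape.up ℤ

variable {U X : Scheme.{u}} (j : U ⟶ X) [IsOpenImmersion j]

/-- restriction on homotopy categories -/
noncomputable abbrev resK : HomotopyCategory X.Modules cc ⥤ HomotopyCategory U.Modules cc :=
  (Scheme.Modules.restrictFunctor j).mapHomotopyCategory cc

/-- the adjunction `j^* ⊣ j_*` on homotopy categories -/
noncomputable def resPushKAdj : resK j ⊣ pushK j :=
  KInj.homotopyAdj (Scheme.Modules.restrictAdjunction j)

/-- the comparison `Qh ⋙ restrictD j ≅ resK j ⋙ Qh` -/
noncomputable abbrev αres : DerivedCategory.Qh ⋙ DCoh.restrictD j ≅ resK j ⋙ DerivedCategory.Qh :=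
  (Scheme.Modules.restrictFunctor j).mapDerivedCategoryFactorsh

variable [DCoh.HasRpush j]

instance : (DCoh.restrictD j).IsLeftDerivedFunctor (αres j).hom
    (HomotopyCategory.quasiIso X.Modules cc) :=
  Functor.isLeftDerivedFunctor_of_inverts _ _ (αres j)

instance : (DCoh.restrictD j ⋙ DCoh.Rpush j).IsLeftDerivedFunctor
    ((Functor.associator _ _ _).inv ≫ Functor.whiskerRight (αres j).hom (DCoh.Rpush j))
    (HomotopyCategory.quasiIso X.Modules cc) :=
  Functor.isLeftDerivedFunctor_of_inverts _ _
    ((Functor.associator _ _ _).symm ≪≫ Functor.isoWhiskerRight (αres j) (DCoh.Rpush j))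

instance : (DCoh.Rpush j ⋙ DCoh.restrictD j).IsRightDerivedFunctor
    (Functor.whiskerRight (unitR j) (DCoh.restrictD j) ≫ (Functor.associator _ _ _).hom)
    (HomotopyCategory.quasiIso U.Modules cc) := by
  apply LocalRes.isRightDerivedFunctor_of_isIso _ (exists_local_resolution (hKinj U))
  intro K hK
  haveI : IsIso ((unitR j).app K) :=
    LocalRes.isIso_unit_app _ (exists_local_resolution (hKinj U)) _ DerivedCategory.Qh (unitR j) K hK
  dsimp
  infer_instance

/-- The derived adjunction `restrictD j ⊣ Rj_*`. -/
noncomputable def resRpushAdj : DCoh.restrictD j ⊣ DCoh.Rpush j :=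
  (resPushKAdj j).derived (HomotopyCategory.quasiIso X.Modules cc)
    (HomotopyCategory.quasiIso U.Modules cc) (αres j).hom (unitR j)

end Groth.Agent.Lib.Helper2.KillPow
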