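import Groth.Agent.Lib.Helper2.KillPow.MV
import Groth.Agent.Lib.Helper2.Aff.AffModel

/-!
# The affine base case and the main theorem for S7276 (helper2)
-/

set_option autoImplicit false
set_option linter.style.haveILetI false
set_option backward.isDefEq.respectTransparency false
universe u
open CategoryTheory CategoryTheory.Limits AlgebraicGeometry TopologicalSpace Opposite
  CategoryTheory.Pretriangulated

attribute [local instance] HasDerivedCategory.standard

namespace Groth.Agent.Lib.Helper2.KillPow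

open Groth.Agent.Lib.Helper2 Groth.Agent.Lib.Helper2.Stk Groth.Agent.Lib.Helper2.Aff
  AlgebraicGeometry.Scheme.Modules Groth.Agent.Lib.Helper13 Groth.Agent.Lib.Helper3
  Groth.Agent.Lib.Helper2.Aff.Qcqs Groth.Agent.Lib.Helper13.QCDim
  Groth.Agent.Lib.Helper2.Aff.HomVan Groth.Agent.Lib.Helper2.TExactIso
  Groth.Agent.Lib.Helper18.DR

attribute [local instance] Groth.Agent.Lib.Helper2.Stk.hasRpush
attribute [local instance] Groth.Agent.Lib.Helper14.preservesFiniteLimits_tilde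

variable {A : Type u} [CommRing A] {X : Scheme.{u}} [X.Over (Spec (CommRingCat.of A))]

section Chart

variable (R : CommRingCat.{u}) (j : SpecR R ⟶ X)

/-- the image of `A` in the coordinate ring of a chart -/
noncomputable def bOf : A →+* R :=
  (Scheme.ΓSpecIso (CommRingCat.of R)).hom.hom.comp
    (j.appTop.hom.comp (Coh.toGlobal (X ↘ Spec (CommRingCat.of A))))

lemma inv_bOf (a : A) :
    (Scheme.ΓSpecIso (CommRingCat.of R)).inv.hom (bOf R j a) =
      j.appTop.hom (Coh.toGlobal (X ↘ Spec (CommRingCat.of A)) a) := by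
  change ((Scheme.ΓSpecIso (CommRingCat.of R)).hom ≫ (Scheme.ΓSpecIso (CommRingCat.of R)).inv).hom
    _ = _
  rw [Iso.hom_inv_id]
  rfl

/-- `Spec R` over itself -/
@[reducible] noncomputable def overSelf : (SpecR R).Over (Spec (CommRingCat.of R)) := ⟨𝟙 _⟩

attribute [local instance] overSelf

lemma smul_id_self (M : (SpecR R).Modules) (b : R) :
    b • 𝟙 M = Formal.smulModΓ M ((Scheme.ΓSpecIso (CommRingCat.of R)).inv.hom b) := by
  rw [KLin.smul_id]
  change Formal.smulModΓ M ((Scheme.Hom.appTop (𝟙 (SpecR R))).hom _) = _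
  congr 1

variable [IsOpenImmersion j]

lemma restrict_smul_id (a : A) (M : X.Modules) :
    (restrictFunctor j).map (a • 𝟙 M) = bOf R j a • 𝟙 ((restrictFunctor j).obj M) := by
  rw [KLin.smul_id, smul_id_self, inv_bOf]
  exact Groth.Agent.Lib.Helper17.KillC.restrict_map_smulModΓ j M _

lemma tilde_smul_id (b : R) (M : ModuleCat.{u} R) :
    (tilde.functor R).map (b • 𝟙 M) = b • 𝟙 ((tilde.functor R).obj M) := by
  rw [smul_id_self]
  exact Groth.Agent.Lib.Helper20.KillB.tilde_map_smul R M b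

lemma mem_zeroLocus_bOf (a : A) (y : SpecR R)
    (hy : j.base y ∈ X.zeroLocus (U := ⊤) {Coh.toGlobal (X ↘ Spec (CommRingCat.of A)) a}) :
    y ∈ (PrimeSpectrum.zeroLocus {bOf R j a} : Set (PrimeSpectrum R)) := by
  rw [Scheme.zeroLocus_singleton] at hy
  have h1 : y ∉ j ⁻¹ᵁ X.basicOpen (Coh.toGlobal (X ↘ Spec (CommRingCat.of A)) a) := hy
  rw [Scheme.preimage_basicOpen] at h1
  have h2 : (SpecR R).basicOpen (j.app ⊤ (Coh.toGlobal (X ↘ Spec (CommRingCat.of A)) a)) =
      PrimeSpectrum.basicOpen (bOf R j a) := basicOpen_eq_of_affine' _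
  rw [h2] at h1
  rw [PrimeSpectrum.mem_zeroLocus, Set.singleton_subset_iff]
  by_contra h3
  exact h1 ((PrimeSpectrum.mem_basicOpen _ _).2 h3)

/-- the chart computation -/
theorem killJ_of_tildeD (a : A) (N : Dual.D R) (hN : DRing.IsPerfect R N) (K : DCoh.D X)
    (eK : (DCoh.restrictD j).obj K ≅ (DCoh.tildeD R).obj N) (L : DCoh.D X)
    (hL : DCoh.IsQCohD L)
    (hsupp : ∀ i : ℤ, CohB1.support (DCoh.HD L i) ⊆
      (X.zeroLocus (U := ⊤) {Coh.toGlobal (X ↘ Spec (CommRingCat.of A)) a} : Set X)) :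
    KillJ a j K L := by
  obtain ⟨hfull, hfaith, hess⟩ := tildeD_fullyFaithful_essImage R
  obtain ⟨M, ⟨eL⟩⟩ := (hess _).1 (isQCohD_restrict j L hL)
  have hM : ∀ i : ℤ, Kos.FTors (bOf R j a) ((H R i).obj M) := by
    intro i
    refine Kos.ftors_H_of_support M _ eL i {bOf R j a} (bOf R j a) rfl ?_
    rw [AffModel.support_HD_restrictD j L i]
    intro y hy
    exact mem_zeroLocus_bOf R j a y (hsupp i hy)
  intro φ
  obtain ⟨χ, hχ⟩ := (DCoh.tildeD R).map_surjective (eK.inv ≫ φ ≫ eL.inv)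
  obtain ⟨n, hn⟩ := Kos.tors_of_isPerfect (bOf R j a) N hN M hM χ
  refine ⟨n, ?_⟩
  have h1 : (DCoh.restrictD j).map (a ^ n • 𝟙 K) = bOf R j a ^ n • 𝟙 _ := by
    rw [← map_pow]
    exact map_smul_id_of_forall (restrictFunctor j) (a ^ n) (bOf R j (a ^ n))
      (fun M' => restrict_smul_id R j (a ^ n) M') K
  have h2 : (DCoh.tildeD R).map (bOf R j a ^ n • χ) = bOf R j a ^ n • (DCoh.tildeD R).map χ :=
    map_smul_of_forall (tilde.functor R) (bOf R j a ^ n) (bOf R j a ^ n)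
      (fun M' => tilde_smul_id R (bOf R j a ^ n) M') χ
  have h3 : φ = eK.hom ≫ (DCoh.tildeD R).map χ ≫ eL.hom := by
    rw [hχ]
    simp
  rw [h1, Linear.smul_comp, Category.id_comp, h3, ← Linear.comp_smul, ← Linear.smul_comp, ← h2, hn,
    Functor.map_zero, zero_comp, comp_zero]

end Chart

/-- the affine base case -/
theorem killJ_of_isAffineOpen (a : A) {W : X.Opens} (hW : IsAffineOpen W) (K : DCoh.D X)
    (hK : DCoh.IsPerfect K) (L : DCoh.D X) (hL : DCoh.IsQCohD L)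
    (hsupp : ∀ i : ℤ, CohB1.support (DCoh.HD L i) ⊆
      (X.zeroLocus (U := ⊤) {Coh.toGlobal (X ↘ Spec (CommRingCat.of A)) a} : Set X)) :
    KillJ a W.ι K L := by
  have hK' := PtFibre.isPerfect_restrict hW.fromSpec hK
  obtain ⟨hfull, hfaith, hess⟩ := tildeD_fullyFaithful_essImage Γ(X, W)
  obtain ⟨N, ⟨eN⟩⟩ := (hess _).1 (isQCohD_of_isPerfect _ hK')
  have hN : DRing.IsPerfect Γ(X, W) N :=
    (PerfAff.isPerfect_tildeD_iff Γ(X, W) N).1 (PerfTri.isPerfect_of_iso eN.symm hK')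
  exact killJ_of_affine a hW K L
    (killJ_of_tildeD Γ(X, W) hW.fromSpec a N hN K eN.symm L hL hsupp)

/-- **S7276** -/
theorem main [CompactSpace ↥X] [QuasiSeparatedSpace ↥X] (a : A) {E E' : DCoh.D X}
    (hE : DCoh.IsPerfect E) (hE'q : DCoh.IsQCohD E')
    (hsupp : ∀ i : ℤ, CohB1.support (DCoh.HD E' i) ⊆
      (X.zeroLocus (U := ⊤) {Coh.toGlobal (X ↘ Spec (CommRingCat.of A)) a} : Set X))
    (α : E ⟶ E') : ∃ n : ℕ, (a ^ n) • α = 0 := by
  obtain ⟨d, hd⟩ := QC.exists_top (X := X)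
  have h := killJ_of_qc a (fun K => DCoh.IsPerfect K)
    (fun L => DCoh.IsQCohD L ∧ ∀ i : ℤ, CohB1.support (DCoh.HD L i) ⊆
      (X.zeroLocus (U := ⊤) {Coh.toGlobal (X ↘ Spec (CommRingCat.of A)) a} : Set X))
    (fun L hL => ⟨isQCohD_shift L hL.1 (-1), fun i =>
      (Qcqs.support_eq_of_iso (homologyShiftIso L (-1) i)).trans_subset (hL.2 (-1 + i))⟩)
    (fun W hW K hK L hL => killJ_of_isAffineOpen a hW K hK L hL.1 hL.2) hd E hE E' ⟨hE'q, hsupp⟩
  exact exists_pow_smul_eq_zero_of_killJ_top a E E' h α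

end Groth.Agent.Lib.Helper2.KillPow
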