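import Mathlib
import Groth.Prelude.Def_KLin

/-!
# Scalar multiplications on derived categories through exact functors (helper2)
-/

set_option autoImplicit false
set_option linter.style.haveILetI false
universe w w' v v' u u'
open CategoryTheory CategoryTheory.Limits

namespace Groth.Agent.Lib.Helper2.KillPow

section Generic

variable {𝒜 : Type u} [Category.{v} 𝒜] [Abelian 𝒜] [HasDerivedCategory.{w} 𝒜]
  {ℬ : Type u'} [Category.{v'} ℬ] [Abelian ℬ] [HasDerivedCategory.{w'} ℬ]
  {R S : Type*} [Ring R] [Ring S] [Linear R 𝒜] [Linear S ℬ]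

omit [HasDerivedCategory.{w} 𝒜] in
lemma smul_id_cx_eq (Φ : 𝒜 ⥤ ℬ) [Φ.Additive] (r : R) (s : S)
    (h : ∀ M : 𝒜, Φ.map (r • 𝟙 M) = s • 𝟙 (Φ.obj M)) (F : CochainComplex 𝒜 ℤ) :
    (Φ.mapHomologicalComplex (ComplexShape.up ℤ)).map (r • 𝟙 F) =
      s • 𝟙 ((Φ.mapHomologicalComplex (ComplexShape.up ℤ)).obj F) := by
  ext i
  simp [h (F.X i)]
  rfl

lemma smul_id_eq_conj (r : R) (K : DerivedCategory 𝒜) :
    r • 𝟙 K = (DerivedCategory.Q.objObjPreimageIso K).inv ≫
      DerivedCategory.Q.map (r • 𝟙 (DerivedCategory.Q.objPreimage K)) ≫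
      (DerivedCategory.Q.objObjPreimageIso K).hom := by
  rw [Functor.map_smul, CategoryTheory.Functor.map_id, Linear.smul_comp, Linear.comp_smul,
    Category.id_comp, Iso.inv_hom_id]

/-- a semilinear exact functor is semilinear on derived categories -/
theorem map_smul_id_of_forall (Φ : 𝒜 ⥤ ℬ) [Φ.Additive] [PreservesFiniteLimits Φ]
    [PreservesFiniteColimits Φ] (r : R) (s : S)
    (h : ∀ M : 𝒜, Φ.map (r • 𝟙 M) = s • 𝟙 (Φ.obj M)) (K : DerivedCategory 𝒜) :
    Φ.mapDerivedCategory.map (r • 𝟙 K) = s • 𝟙 (Φ.mapDerivedCategory.obj K) := by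
  set F := DerivedCategory.Q.objPreimage K
  set e := DerivedCategory.Q.objObjPreimageIso K
  have h1 : Φ.mapDerivedCategory.map (DerivedCategory.Q.map (r • 𝟙 F)) =
      s • 𝟙 _ := by
    have nat := Φ.mapDerivedCategoryFactors.hom.naturality (r • 𝟙 F)
    simp only [Functor.comp_map] at nat
    rw [← cancel_mono (Φ.mapDerivedCategoryFactors.hom.app F), nat, smul_id_cx_eq Φ r s h F,
      Functor.map_smul, CategoryTheory.Functor.map_id, Linear.comp_smul, Linear.smul_comp]
    erw [Category.comp_id, Category.id_comp]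
  rw [smul_id_eq_conj r K, Functor.map_comp, Functor.map_comp, h1, Linear.smul_comp,
    Linear.comp_smul, Category.id_comp, ← Functor.map_comp, Iso.inv_hom_id,
    CategoryTheory.Functor.map_id]

/-- semilinearity for arbitrary morphisms -/
theorem map_smul_of_forall (Φ : 𝒜 ⥤ ℬ) [Φ.Additive] [PreservesFiniteLimits Φ]
    [PreservesFiniteColimits Φ] (r : R) (s : S)
    (h : ∀ M : 𝒜, Φ.map (r • 𝟙 M) = s • 𝟙 (Φ.obj M)) {K L : DerivedCategory 𝒜} (f : K ⟶ L) :
    Φ.mapDerivedCategory.map (r • f) = s • Φ.mapDerivedCategory.map f := by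
  have : r • f = (r • 𝟙 K) ≫ f := by rw [Linear.smul_comp, Category.id_comp]
  rw [this, Functor.map_comp, map_smul_id_of_forall Φ r s h K, Linear.smul_comp, Category.id_comp]

end Generic

end Groth.Agent.Lib.Helper2.KillPow
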