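import Groth.Agent.Lib.Helper2.KillPow.Adj
import Groth.Agent.Lib.Helper2.KillPow.Lin
import Groth.Agent.Lib.Helper2.Aff.HomVanBase
import Groth.Agent.Lib.Helper2.Kos.Factor
import Groth.Agent.Lib.Helper18.DSchL
import Groth.Agent.Lib.Helper20.KillB
import Groth.Agent.Lib.Helper17.KillC

/-!
# Powers of `a` kill `Hom(perfect, supported on V(a))` (helper2)
-/

set_option autoImplicit false
set_option linter.style.haveILetI false
set_option backward.isDefEq.respectTransparency false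
universe u
open CategoryTheory CategoryTheory.Limits AlgebraicGeometry TopologicalSpace Opposite
  CategoryTheory.Pretriangulated

attribute [local instance] HasDerivedCategory.standard

namespace Groth.Agent.Lib.Helper2.KillPow

open Groth.Agent.Lib.Helper2 Groth.Agent.Lib.Helper2.Stk Groth.Agent.Lib.Helper2.Aff
  AlgebraicGeometry.Scheme.Modules Groth.Agent.Lib.Helper13 Groth.Agent.Lib.Helper3
  Groth.Agent.Lib.Helper2.Aff.Qcqs Groth.Agent.Lib.Helper13.QCDim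
  Groth.Agent.Lib.Helper2.Aff.HomVan

attribute [local instance] Groth.Agent.Lib.Helper2.Stk.hasRpush

variable {A : Type u} [CommRing A] {X : Scheme.{u}} [X.Over (Spec (CommRingCat.of A))] (a : A)

/-- every `K|_U ⟶ L|_U` is killed by a power of `a` acting through `K` -/
def KillJ {U : Scheme.{u}} (j : U ⟶ X) [IsOpenImmersion j] (K L : DCoh.D X) : Prop :=
  ∀ φ : (DCoh.restrictD j).obj K ⟶ (DCoh.restrictD j).obj L,
    ∃ n : ℕ, (DCoh.restrictD j).map (a ^ n • 𝟙 K) ≫ φ = 0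

lemma killJ_iff_adj {U : Scheme.{u}} (j : U ⟶ X) [IsOpenImmersion j] (K L : DCoh.D X) :
    KillJ a j K L ↔ ∀ ψ : K ⟶ (DCoh.Rpush j).obj ((DCoh.restrictD j).obj L),
      ∃ n : ℕ, a ^ n • ψ = 0 := by
  have key : ∀ (n : ℕ) (ψ : K ⟶ (DCoh.Rpush j).obj ((DCoh.restrictD j).obj L)),
      ((resRpushAdj j).homEquiv K _).symm (a ^ n • ψ) =
        (DCoh.restrictD j).map (a ^ n • 𝟙 K) ≫ ((resRpushAdj j).homEquiv K _).symm ψ := by
    intro n ψ
    rw [← Adjunction.homEquiv_naturality_left_symm, Linear.smul_comp, Category.id_comp]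
  have h0 : ((resRpushAdj j).homEquiv K ((DCoh.restrictD j).obj L)).symm 0 = 0 := by
    rw [Adjunction.homEquiv_counit, Functor.map_zero, zero_comp]
  constructor
  · intro h ψ
    obtain ⟨n, hn⟩ := h (((resRpushAdj j).homEquiv K _).symm ψ)
    refine ⟨n, ?_⟩
    apply ((resRpushAdj j).homEquiv K _).symm.injective
    rw [key, hn, h0]
  · intro h φ
    obtain ⟨n, hn⟩ := h ((resRpushAdj j).homEquiv K _ φ)
    refine ⟨n, ?_⟩
    have := key n ((resRpushAdj j).homEquiv K _ φ)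
    rw [Equiv.symm_apply_apply, hn, h0] at this
    exact this.symm

lemma killJ_iff_adj' {U : Scheme.{u}} (j j' : U ⟶ X) [IsOpenImmersion j] (hj : j' = j)
    (K L : DCoh.D X) :
    KillJ a j K L ↔ ∀ ψ : K ⟶ (DCoh.Rpush j').obj ((DCoh.restrictD j).obj L),
      ∃ n : ℕ, a ^ n • ψ = 0 := by
  subst hj
  exact killJ_iff_adj a j' K L

/-- **Mayer–Vietoris** -/
theorem killJ_sup (W₁ W₂ : X.Opens) (K L : DCoh.D X) (h₁ : KillJ a W₁.ι K L)
    (h₂ : KillJ a W₂.ι K L) (h₁₂ : KillJ a (W₁ ⊓ W₂).ι K (L⟦(-1 : ℤ)⟧)) :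
    KillJ a (W₁ ⊔ W₂).ι K L := by
  obtain ⟨α, β, γ, hT⟩ := exists_mv_triangle (𝟙 X) W₁ W₂ L
  rw [killJ_iff_adj' a _ ((W₁ ⊔ W₂).ι ≫ 𝟙 X) (Category.comp_id _)]
  rw [killJ_iff_adj' a _ (W₁.ι ≫ 𝟙 X) (Category.comp_id _)] at h₁
  rw [killJ_iff_adj' a _ (W₂.ι ≫ 𝟙 X) (Category.comp_id _)] at h₂
  rw [killJ_iff_adj' a _ ((W₁ ⊓ W₂).ι ≫ 𝟙 X) (Category.comp_id _)] at h₁₂
  intro ψ
  obtain ⟨n₁, hn₁⟩ := h₁ (ψ ≫ α ≫ biprod.fst)
  obtain ⟨n₂, hn₂⟩ := h₂ (ψ ≫ α ≫ biprod.snd)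
  have hψa : (a ^ (n₂ + n₁) • ψ) ≫ α = 0 := by
    apply biprod.hom_ext
    · rw [zero_comp, Category.assoc, Linear.smul_comp, pow_add, mul_smul, hn₁, smul_zero]
    · rw [zero_comp, Category.assoc, Linear.smul_comp, pow_add, mul_comm, mul_smul, hn₂,
        smul_zero]
  obtain ⟨χ, hχ⟩ := Triangle.coyoneda_exact₂ _ (inv_rot_of_distTriang _ hT) _ hψa
  obtain ⟨cs, tri⟩ := exists_isTriangulated_Rpush ((W₁ ⊓ W₂).ι ≫ 𝟙 X)
  let ε : (RW (𝟙 X) (W₁ ⊓ W₂) L)⟦(-1 : ℤ)⟧ ≅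
      (DCoh.Rpush ((W₁ ⊓ W₂).ι ≫ 𝟙 X)).obj ((DCoh.restrictD (W₁ ⊓ W₂).ι).obj (L⟦(-1 : ℤ)⟧)) :=
    ((DCoh.Rpush ((W₁ ⊓ W₂).ι ≫ 𝟙 X)).commShiftIso (-1 : ℤ)).symm.app _ ≪≫
      (DCoh.Rpush ((W₁ ⊓ W₂).ι ≫ 𝟙 X)).mapIso
        (((DCoh.restrictD (W₁ ⊓ W₂).ι).commShiftIso (-1 : ℤ)).symm.app L)
  obtain ⟨m, hm⟩ := h₁₂ (χ ≫ ε.hom)
  have hχ0 : a ^ m • χ = 0 := by
    rw [← cancel_mono ε.hom, Linear.smul_comp, hm, zero_comp]
  refine ⟨m + (n₂ + n₁), ?_⟩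
  rw [pow_add, mul_smul, hχ, ← Linear.smul_comp, hχ0, zero_comp]

/-- the induction along a Mayer–Vietoris certificate -/
theorem killJ_of_qc (𝒦 ℒ : DCoh.D X → Prop) (hshift : ∀ L, ℒ L → ℒ (L⟦(-1 : ℤ)⟧))
    (hbase : ∀ W : X.Opens, IsAffineOpen W → ∀ K, 𝒦 K → ∀ L, ℒ L → KillJ a W.ι K L)
    {d : ℕ} {W : X.Opens} (h : QC d W) : ∀ K, 𝒦 K → ∀ L, ℒ L → KillJ a W.ι K L := by
  induction h with
  | affine W h => exact hbase W h
  | union d U V hU hV hUV ihU ihV ihUV =>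
    intro K hK L hL
    exact killJ_sup a U V K L (ihU K hK L hL) (ihV K hK L hL) (ihUV K hK _ (hshift L hL))
  | mono d d' W h hW ih => exact ih

theorem exists_pow_smul_eq_zero_of_killJ_top (K L : DCoh.D X) (h : KillJ a (⊤ : X.Opens).ι K L)
    (φ : K ⟶ L) : ∃ n : ℕ, a ^ n • φ = 0 := by
  haveI : IsIso (⊤ : X.Opens).ι := (Scheme.topIso X).isIso_hom
  haveI := faithful_restrictD_of_isIso (⊤ : X.Opens).ι
  obtain ⟨n, hn⟩ := h ((DCoh.restrictD (⊤ : X.Opens).ι).map φ)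
  refine ⟨n, ?_⟩
  apply (DCoh.restrictD (⊤ : X.Opens).ι).map_injective
  rw [Functor.map_zero, ← hn, ← Functor.map_comp, Linear.smul_comp, Category.id_comp]

open Groth.Agent.Lib.Helper18.DSch in
theorem killJ_of_killJ_comp {Y' Y : Scheme.{u}} (e : Y' ⟶ Y) [IsIso e] (j : Y ⟶ X)
    [IsOpenImmersion j] (K L : DCoh.D X) (h : KillJ a (e ≫ j) K L) : KillJ a j K L := by
  intro φ
  let c := restrictDComp e j
  obtain ⟨n, hn⟩ := h (c.hom.app K ≫ (DCoh.restrictD e).map φ ≫ c.inv.app L)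
  refine ⟨n, ?_⟩
  haveI := faithful_restrictD_of_isIso e
  apply (DCoh.restrictD e).map_injective
  have nat := c.hom.naturality (a ^ n • 𝟙 K)
  rw [Functor.comp_map] at nat
  rw [← Category.assoc, nat, Category.assoc, ← Functor.map_comp_assoc] at hn
  rw [Functor.map_zero, ← cancel_epi (c.hom.app K), ← cancel_mono (c.inv.app L), Category.assoc,
    hn, comp_zero, zero_comp]

lemma killJ_congr {U : Scheme.{u}} {j j' : U ⟶ X} [IsOpenImmersion j] [IsOpenImmersion j']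
    (h : j = j') (K L : DCoh.D X) : KillJ a j K L ↔ KillJ a j' K L := by
  subst h
  rfl

theorem killJ_of_affine {W : X.Opens} (hW : IsAffineOpen W) (K L : DCoh.D X)
    (h : KillJ a hW.fromSpec K L) : KillJ a W.ι K L := by
  apply killJ_of_killJ_comp a hW.isoSpec.inv W.ι K L
  exact (killJ_congr a hW.isoSpec_inv_ι K L).2 h

end Groth.Agent.Lib.Helper2.KillPow
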